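import Groth.Agent.Lib.CartanNhd21.Main
import Groth.Agent.Lib.SmoothSection.Scheme
import Groth.Agent.S3025

/-!
# Maximal tori of a subgroup whose fibres contain Cartan subgroups
-/

set_option autoImplicit false
set_option linter.style.haveILetI false
set_option linter.unusedSectionVars false
set_option backward.isDefEq.respectTransparency.types false

universe u

open CategoryTheory Limits MonoidalCategory CartesianMonoidalCategory MonObj AlgebraicGeometry Opposite

noncomputable section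

namespace Groth.Agent.SubTorus21

open DiagGL MTRigid29 CartanT21 CartanNhd21

variable {S : Scheme.{u}} {G H : Over S} [GrpObj G] [GrpObj H] [Smooth G.hom] [QuasiCompact G.hom]
  [IsSeparated G.hom] [Smooth H.hom] [QuasiCompact H.hom] (i : H ⟶ G) [IsMonHom i] [Mono i]

set_option maxHeartbeats 1000000 in
/-- The transporter of a maximal torus into the subgroup is smooth and surjective. -/
theorem exists_transporter_surjective
    (hHC : ∀ s : S, ∃ (C' : Over (Spec (CommRingCat.of (AlgebraicClosure (S.residueField s))))) (_ : GrpObj C')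
      (c' : C' ⟶ Red.geomFibre s H), SGA3x.IsCartanOver _ (c' ≫ (Over.pullback (Red.geomPt s)).map i))
    {S' : Scheme.{u}} (f : S' ⟶ S) {T : Over S'} [GrpObj T] (i₀ : T ⟶ Red.bc f G)
    (hT : Red.IsMaximalTorus i₀) :
    ∃ (P : Over S') (p : P ⟶ Red.bc f G), Smooth P.hom ∧ Surjective P.hom ∧
      ∀ (X : Over S') (g : X ⟶ Red.bc f G), (∃ x : X ⟶ P, x ≫ p = g) ↔
        ∀ (X' : Over S') (x : X' ⟶ X) (h : X' ⟶ T), ∃ a : X' ⟶ Red.bc f H,
          (x ≫ g) * (h ≫ i₀) * (x ≫ g)⁻¹ = a ≫ (Over.pullback f).map i := by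
  haveI := hT.1
  haveI := hT.2.1
  haveI : Smooth (Red.bc f G).hom := inferInstanceAs (Smooth (pullback.snd G.hom f))
  haveI : IsSeparated (Red.bc f G).hom := inferInstanceAs (IsSeparated (pullback.snd G.hom f))
  haveI : QuasiCompact (Red.bc f G).hom := inferInstanceAs (QuasiCompact (pullback.snd G.hom f))
  haveI : Smooth (Red.bc f H).hom := inferInstanceAs (Smooth (pullback.snd H.hom f))
  haveI : QuasiCompact (Red.bc f H).hom := inferInstanceAs (QuasiCompact (pullback.snd H.hom f))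
  haveI : IsMonHom ((Over.pullback f).map i) := isMonHom_map i f
  haveI : Mono ((Over.pullback f).map i) := Functor.map_mono _ _
  obtain ⟨P, p, -, hPs, hrep⟩ := exists_transporter_smooth hT.2.2.1 i₀ ((Over.pullback f).map i)
  refine ⟨P, p, hPs, ⟨fun b => ?_⟩, hrep⟩
  let k := Red.geomPt b
  obtain ⟨s, a, -, hσ⟩ := MTExt21.exists_factor_geomPt (k ≫ f)
  obtain ⟨C', _, c', hC'⟩ := hHC s
  let φ := Spec.map (CommRingCat.ofHom a)
  let g := Red.geomPt s
  haveI : Smooth (Red.bc g G).hom := inferInstanceAs (Smooth (pullback.snd G.hom g))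
  have h1 := cartanOver_bc hC' φ
  let E := fun Y : Over S => SpreadSub19.bcComp f k (c := k ≫ f) rfl Y ≪≫
    (SpreadSub19.bcComp g φ (c := k ≫ f) hσ.symm Y).symm
  have hE : ∀ (Y : Over S) [GrpObj Y], IsMonHom (E Y).hom := fun Y _ => by
    haveI := SpreadSub19.bcComp_isMonHom f k (c := k ≫ f) rfl Y
    haveI := SpreadSub19.bcComp_isMonHom g φ (c := k ≫ f) hσ.symm Y
    exact inferInstanceAs (IsMonHom ((SpreadSub19.bcComp f k (c := k ≫ f) rfl Y).hom ≫
      (SpreadSub19.bcComp g φ (c := k ≫ f) hσ.symm Y).inv))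
  haveI := hE G
  have hnat : (Over.pullback k).map ((Over.pullback f).map i) ≫ (E G).hom =
      (E H).hom ≫ (Over.pullback φ).map ((Over.pullback g).map i) := by
    rw [← cancel_mono (SpreadSub19.bcComp g φ (c := k ≫ f) hσ.symm G).hom]
    simp only [E, Iso.trans_hom, Iso.symm_hom, Category.assoc, Iso.inv_hom_id, Category.comp_id]
    rw [SpreadSub19.bcComp_natural g φ hσ.symm i, Iso.inv_hom_id_assoc, SpreadSub19.bcComp_natural f k rfl i]
  haveI := isMonHom_refl (Red.bc φ C')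
  let c'' := ((Over.pullback φ).map c' ≫ (E H).inv) ≫ (Over.pullback k).map ((Over.pullback f).map i)
  have h2 : SGA3x.IsCartanOver _ c'' := cartanOver_iso h1 (E G) (Iso.refl _) c'' (by
    simp only [c'', Iso.refl_hom, Category.id_comp, Category.assoc]
    rw [hnat, Iso.inv_hom_id_assoc, Functor.map_comp])
  haveI : Smooth (Red.bc k (Red.bc f G)).hom := inferInstanceAs (Smooth (pullback.snd (Red.bc f G).hom k))
  haveI : QuasiCompact (Red.bc k (Red.bc f G)).hom :=
    inferInstanceAs (QuasiCompact (pullback.snd (Red.bc f G).hom k))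
  obtain ⟨cg, v, hv⟩ := exists_conj_into h2 (MTExt21.isMaximalTorus_bc hT k)
  let v' := v ≫ (Over.pullback φ).map c' ≫ (E H).inv
  have hv' : v' ≫ (Over.pullback k).map ((Over.pullback f).map i) =
      (Over.pullback k).map i₀ ≫ (conjIso cg).hom := by
    rw [← hv]
    simp only [v', c'', Category.assoc]
  obtain ⟨z, -⟩ := (hrep (Over.mk k) (MTRigid29.secOf k cg)).2 fun X' x t => by
    obtain ⟨Y, e, y', hy', hg⟩ := MTRigid29.exists_bc_point (G := Red.bc f G) k x t
    refine ⟨e.hom ≫ fl k (Red.bc f H) (y' ≫ v'), ?_⟩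
    have h0 : (toUnit Y ≫ cg) * (y' ≫ (Over.pullback k).map i₀) * (toUnit Y ≫ cg)⁻¹ =
        (y' ≫ v') ≫ (Over.pullback k).map ((Over.pullback f).map i) := by
      rw [Category.assoc, hv', ← Category.assoc, comp_conjIso]
    have h3 := congrArg (fun z => e.hom ≫ fl k (Red.bc f G) z) h0
    simp only [fl_mul, fl_comp_map, MTRigid29.fl_inv k (Red.bc f G), MonObj.comp_mul, GrpObj.comp_inv, hg] at h3
    rw [← Category.assoc e.hom _ i₀, hy'] at h3
    rw [h3, Category.assoc]
  refine ⟨z.left (IsLocalRing.closedPoint _), ?_⟩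
  rw [← Scheme.Hom.comp_apply, Over.w z]
  exact CentMT21.geomPt_apply b

set_option maxHeartbeats 1000000 in
/-- A point of the transporter gives a maximal torus of the subgroup. -/
theorem exists_maxTorus_of_point {S' : Scheme.{u}} (f : S' ⟶ S) {T : Over S'} [GrpObj T] (i₀ : T ⟶ Red.bc f G)
    (hT : Red.IsMaximalTorus i₀) {X : Scheme.{u}} (h : X ⟶ S') (p' : Over.mk h ⟶ Red.bc f G)
    (hp' : ∀ (X' : Over S') (x : X' ⟶ Over.mk h) (t : X' ⟶ T), ∃ a : X' ⟶ Red.bc f H,
      (x ≫ p') * (t ≫ i₀) * (x ≫ p')⁻¹ = a ≫ (Over.pullback f).map i) :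
    ∃ (T₁ : Over X) (_ : GrpObj T₁) (i₁ : T₁ ⟶ Red.bc (h ≫ f) H), Red.IsMaximalTorus i₁ := by
  haveI := hT.1
  haveI : Smooth (Red.bc f G).hom := inferInstanceAs (Smooth (pullback.snd G.hom f))
  obtain ⟨g₁, hg₁⟩ := exists_section_bc (G := Red.bc f G) h p'
  obtain ⟨x₁, hx₁⟩ := hg₁ (Red.bc h T)
  obtain ⟨b, hb⟩ := hp' _ x₁ (fl h T (𝟙 _))
  obtain ⟨t₁, rfl⟩ := fl_surjective h (Red.bc f H) b
  have ht₁ : t₁ ≫ (Over.pullback h).map ((Over.pullback f).map i) =
      (Over.pullback h).map i₀ ≫ (conjIso g₁).hom := by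
    refine fl_injective h (Red.bc f G) ?_
    rw [comp_conjIso, fl_mul, fl_mul, MTRigid29.fl_inv h (Red.bc f G), hx₁]
    have e : fl h (Red.bc f G) ((Over.pullback h).map i₀) = fl h T (𝟙 _) ≫ i₀ := by
      rw [← fl_comp_map, Category.id_comp]
    rw [e, hb, fl_comp_map]
  let π := h ≫ f
  let t : Red.bc h T ⟶ Red.bc π H := t₁ ≫ (SpreadSub19.bcComp f h (c := π) rfl H).hom
  have ht : Red.IsMaximalTorus (t ≫ (Over.pullback π).map i) := by
    have h₀ := isMaximalTorus_conj (MTExt21.isMaximalTorus_bc hT h) g₁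
    haveI := SpreadSub19.bcComp_isMonHom f h (c := π) rfl G
    haveI := isMonHom_refl (Red.bc h T)
    haveI : IsMonHom (SpreadSub19.bcComp f h (c := π) rfl G).symm.hom :=
      inferInstanceAs (IsMonHom (SpreadSub19.bcComp f h (c := π) rfl G).inv)
    refine MTDesc21.isMaximalTorus_transfer h₀ (Iso.refl _) (SpreadSub19.bcComp f h (c := π) rfl G).symm _ ?_
      (MTExt21.isTorus_bc hT.2.2.1 h)
    rw [← cancel_mono (SpreadSub19.bcComp f h (c := π) rfl G).hom]
    simp only [t, Category.assoc, Iso.symm_hom, Iso.inv_hom_id, Category.comp_id, Iso.refl_hom,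
      Category.id_comp]
    rw [← SpreadSub19.bcComp_natural f h rfl i, ← Category.assoc, ht₁, Category.assoc]
  haveI : IsMonHom ((Over.pullback π).map i) := isMonHom_map i π
  haveI : Mono ((Over.pullback π).map i) := Functor.map_mono _ _
  exact ⟨Red.bc h T, inferInstance, t, isMaximalTorus_factor _ t ht⟩

/-- A smooth surjective morphism has a section étale locally. -/
theorem exists_etale_cover_section {X S : Scheme.{u}} (f : X ⟶ S) [Smooth f] [Surjective f] :
    ∃ (S' : Scheme.{u}) (g : S' ⟶ S) (h : S' ⟶ X), Etale g ∧ Surjective g ∧ h ≫ f = g := by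
  have key : ∀ s : S, ∃ (U : Scheme.{u}) (g : U ⟶ S) (t : U), Etale g ∧ g t = s ∧ ∃ h : U ⟶ X, h ≫ f = g := by
    intro s
    obtain ⟨x, rfl⟩ := f.surjective s
    exact SmoothSection.exists_etale_section f x
  choose U g t hg hgt h hh using key
  refine ⟨∐ U, Sigma.desc g, Sigma.desc h, IsZariskiLocalAtSource.sigmaDesc hg,
    ⟨fun s => ⟨Sigma.ι U s (t s), ?_⟩⟩, ?_⟩
  · rw [← Scheme.Hom.comp_apply, Sigma.ι_desc]
    exact hgt s
  · ext s : 1
    simp [hh s]

variable (hHC : ∀ s : S, ∃ (C' : Over (Spec (CommRingCat.of (AlgebraicClosure (S.residueField s))))) (_ : GrpObj C')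
      (c' : C' ⟶ Red.geomFibre s H), SGA3x.IsCartanOver _ (c' ≫ (Over.pullback (Red.geomPt s)).map i))

include hHC in
theorem hasMaxTorus_etale (hG : SGA3x.HasMaxTorusEtaleLocally G) : SGA3x.HasMaxTorusEtaleLocally H := by
  obtain ⟨S', f, hf, hfs, T, _, i₀, hT⟩ := hG
  haveI := hf
  haveI := hfs
  obtain ⟨P, p, hPs, hP, hrep⟩ := exists_transporter_surjective i hHC f i₀ hT
  obtain ⟨X, h, x, hh, hhs, hx⟩ := exists_etale_cover_section P.hom
  haveI := hh
  haveI := hhs
  obtain ⟨T₁, _, i₁, h₁⟩ := exists_maxTorus_of_point i f i₀ hT h ((Over.homMk x hx : Over.mk h ⟶ P) ≫ p)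
    ((hrep _ _).1 ⟨_, rfl⟩)
  exact ⟨X, h ≫ f, inferInstance, inferInstance, T₁, inferInstance, i₁, h₁⟩

include hHC in
theorem hasMaxTorus_fpqc (hG : SGA3x.HasMaxTorusFpqcLocally G) : SGA3x.HasMaxTorusFpqcLocally H := by
  obtain ⟨S', f, hf, hfs, hfc, T, _, i₀, hT⟩ := hG
  haveI := hf
  haveI := hfs
  obtain ⟨P, p, hPs, hP, hrep⟩ := exists_transporter_surjective i hHC f i₀ hT
  let h := P.hom
  obtain ⟨T₁, _, i₁, h₁⟩ := exists_maxTorus_of_point i f i₀ hT h ((Over.homMk (𝟙 _) (Category.id_comp _) : Over.mk h ⟶ P) ≫ p)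
    ((hrep _ _).1 ⟨_, rfl⟩)
  refine ⟨P.left, h ≫ f, inferInstanceAs (Flat (h ≫ f)), inferInstanceAs (Surjective (h ≫ f)), fun V hV => ?_,
    T₁, inferInstance, i₁, h₁⟩
  obtain ⟨W, hW, hWV⟩ := hfc V hV
  obtain ⟨W', hW', hWW'⟩ := exists_compact_image' h W hW
  exact ⟨W', hW', by rw [← hWV, ← hWW', Set.image_image]; rfl⟩

end Groth.Agent.SubTorus21
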